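import Cfsg.Agent.Classical.Elusive.Prime
import Cfsg.Agent.MatModule.PolyModule
import Cfsg.Prelude.Def_GeometricClasses

/-!
# Similitudes of a sesquilinear form inside the general linear group

Conjugation into a similitude group, the condition this puts on eigenvalues, and witnesses of prime order.
-/

set_option autoImplicit false
set_option linter.unusedSectionVars false

namespace Cfsg.Agent.Classical.SimConj

open Polynomial Module Matrix Cfsg.Agent.MatModule Cfsg.Agent.Classical.Elusive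

universe u

section general

variable {ι : Type*} [Fintype ι] [DecidableEq ι] {F : Type*} [Field F]

/-- `g` multiplies the form with Gram matrix `J` (semilinear through `σ` in the second argument) by `c`. -/
def IsSim (σ : F →+* F) (J g : Matrix ι ι F) (c : F) : Prop := gᵀ * J * g.map σ = c • J

theorem isSim_smul {σ : F →+* F} {J g : Matrix ι ι F} {c a : F} (ha : a ≠ 0) :
    IsSim σ (a • J) g c ↔ IsSim σ J g c := by
  rw [IsSim, IsSim, Matrix.mul_smul, Matrix.smul_mul, smul_comm c a J]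
  exact ⟨fun h => smul_right_injective _ ha h, fun h => by rw [h]⟩

theorem congr_sim {σ : F →+* F} {J g : Matrix ι ι F} {c : F} (P : GL ι F)
    (h : IsSim σ ((P.1)ᵀ * J * P.1.map σ) g c) : IsSim σ J (P.1 * g * (P⁻¹).1) c := by
  have e1 : ((P⁻¹).1)ᵀ * (P.1)ᵀ = 1 := by
    rw [← Matrix.transpose_mul, ← Units.val_mul, mul_inv_cancel, Units.val_one, Matrix.transpose_one]
  have e2 : P.1.map σ * (P⁻¹).1.map σ = 1 := by
    rw [← Matrix.map_mul, ← Units.val_mul, mul_inv_cancel, Units.val_one]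
    exact Matrix.map_one σ (map_zero σ) (map_one σ)
  unfold IsSim at h ⊢
  calc (P.1 * g * (P⁻¹).1)ᵀ * J * (P.1 * g * (P⁻¹).1).map σ
      = ((P⁻¹).1)ᵀ * (gᵀ * ((P.1)ᵀ * J * P.1.map σ) * g.map σ) * (P⁻¹).1.map σ := by
        simp only [Matrix.transpose_mul, Matrix.map_mul, Matrix.mul_assoc]
    _ = c • ((((P⁻¹).1)ᵀ * (P.1)ᵀ) * J * (P.1.map σ * (P⁻¹).1.map σ)) := by
        rw [h]
        simp only [Matrix.mul_smul, Matrix.smul_mul, Matrix.mul_assoc]
    _ = c • J := by rw [e1, e2, Matrix.one_mul, Matrix.mul_one]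

theorem pow_sim {σ : F →+* F} {J g : Matrix ι ι F} {c : F} (h : IsSim σ J g c) :
    ∀ k : ℕ, IsSim σ J (g ^ k) (c ^ k)
  | 0 => by rw [IsSim, pow_zero, pow_zero, Matrix.transpose_one, Matrix.one_mul, one_smul,
      Matrix.map_one σ (map_zero σ) (map_one σ), Matrix.mul_one]
  | k + 1 => by
    have hk : (g ^ k)ᵀ * J * (g ^ k).map σ = c ^ k • J := pow_sim h k
    have hg : gᵀ * J * g.map σ = c • J := h
    rw [IsSim, pow_succ, pow_succ, Matrix.transpose_mul, Matrix.map_mul,
      show gᵀ * (g ^ k)ᵀ * J * ((g ^ k).map σ * g.map σ) = gᵀ * ((g ^ k)ᵀ * J * (g ^ k).map σ) * g.map σ by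
        simp only [Matrix.mul_assoc], hk, Matrix.mul_smul, Matrix.smul_mul, hg, smul_smul]

theorem mult_eq_of_scalar {σ : F →+* F} {J g : Matrix ι ι F} {c z : F} {k : ℕ} (hJ : J.det ≠ 0) [Nonempty ι]
    (h : IsSim σ J g c) (hz : g ^ k = z • 1) : c ^ k = z * σ z := by
  have h1 : (g ^ k)ᵀ * J * (g ^ k).map σ = c ^ k • J := pow_sim h k
  have e : ((z • 1 : Matrix ι ι F)).map σ = σ z • 1 := by
    ext i j
    by_cases hij : i = j <;> simp [hij]
  rw [hz, e, Matrix.transpose_smul, Matrix.transpose_one, Matrix.smul_mul, Matrix.one_mul, Matrix.mul_smul,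
    Matrix.mul_one, smul_smul] at h1
  have hJ0 : J ≠ 0 := fun h0 => hJ (by rw [h0, Matrix.det_zero])
  exact (smul_left_injective F hJ0 h1).symm.trans (mul_comm _ _)

theorem det_map' (σ : F →+* F) (M : Matrix ι ι F) : (M.map σ).det = σ M.det := (σ.map_det M).symm

/-- A diagonalisable similitude permutes its eigenvalues by `a ↦ c / σ a`. -/
theorem exists_perm {σ : F →+* F} {J : Matrix ι ι F} (hJ : J.det ≠ 0) {y : Matrix ι ι F} {c : F}
    (hy : IsSim σ J y c) (G : GL ι F) (w : ι → F) (hG : y * G.1 = G.1 * Matrix.diagonal w) :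
    ∃ π : Equiv.Perm ι, ∀ i, w i * σ (w (π i)) = c := by
  set K := (G.1)ᵀ * J * G.1.map σ with hK
  have hKd : K.det ≠ 0 := by
    rw [hK, Matrix.det_mul, Matrix.det_mul, Matrix.det_transpose, det_map']
    have hg : G.1.det ≠ 0 := (Matrix.GeneralLinearGroup.det G).ne_zero
    exact mul_ne_zero (mul_ne_zero hg hJ) ((map_ne_zero σ).2 hg)
  have hD : Matrix.diagonal w * K * (Matrix.diagonal w).map σ = c • K := by
    calc Matrix.diagonal w * K * (Matrix.diagonal w).map σ
        = (G.1 * Matrix.diagonal w)ᵀ * J * (G.1 * Matrix.diagonal w).map σ := by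
          simp only [hK, Matrix.transpose_mul, Matrix.map_mul, Matrix.diagonal_transpose, Matrix.mul_assoc]
      _ = (G.1)ᵀ * (yᵀ * J * y.map σ) * G.1.map σ := by
          rw [← hG]
          simp only [Matrix.transpose_mul, Matrix.map_mul, Matrix.mul_assoc]
      _ = c • K := by
          rw [show yᵀ * J * y.map σ = c • J from hy, hK]
          simp only [Matrix.mul_smul, Matrix.smul_mul]
  obtain ⟨π, hπ⟩ : ∃ π : Equiv.Perm ι, ∀ i, K i (π i) ≠ 0 := by
    by_contra hne
    push Not at hne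
    refine hKd ?_
    rw [← Matrix.det_transpose, Matrix.det_apply]
    refine Finset.sum_eq_zero fun τ _ => ?_
    obtain ⟨i, hi⟩ := hne τ
    rw [Finset.prod_eq_zero (Finset.mem_univ i) (by rw [Matrix.transpose_apply]; exact hi), smul_zero]
  refine ⟨π, fun i => ?_⟩
  have h := congrFun (congrFun hD i) (π i)
  rw [Matrix.diagonal_map (map_zero σ), Matrix.mul_diagonal, Matrix.diagonal_mul, Matrix.smul_apply,
    smul_eq_mul] at h
  exact mul_right_cancel₀ (hπ i) (by linear_combination h)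

/-- Eigenvalues of isometries come in pairs `t`, `1 / τ t`. -/
theorem det_reverse {L : Type*} [Field L] (τ : L →+* L) {J Y : Matrix ι ι L} (hJ : J.det ≠ 0)
    (h : Yᵀ * J * Y.map τ = J) {t : L} (ht : t ≠ 0) (hroot : (Matrix.scalar ι t - Y).det = 0) :
    (Matrix.scalar ι (τ t)⁻¹ - Y).det = 0 := by
  set s := τ t with hs
  have hs0 : s ≠ 0 := (map_ne_zero τ).2 ht
  have hscal : ∀ a : L, Matrix.scalar ι a = a • (1 : Matrix ι ι L) := fun a => by
    rw [← Matrix.diagonal_one, ← Matrix.diagonal_smul, Matrix.scalar_apply]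
    congr 1
    funext i
    simp
  rw [hscal] at hroot ⊢
  have e1 : (s • (1 : Matrix ι ι L) - Y.map τ).det = 0 := by
    have := congrArg τ hroot
    rw [map_zero, RingHom.map_det] at this
    rw [← this]
    congr 1
    ext i j
    by_cases hij : i = j <;> simp [hij, hs]
  have e2 : (s • Yᵀ - 1) * J = Yᵀ * J * (s • (1 : Matrix ι ι L) - Y.map τ) := by
    rw [Matrix.mul_sub, h, Matrix.mul_smul, Matrix.mul_one, Matrix.sub_mul, Matrix.smul_mul, Matrix.one_mul]
  have e3 := congrArg Matrix.det e2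
  rw [Matrix.det_mul, Matrix.det_mul, e1, mul_zero, mul_eq_zero, or_iff_left hJ] at e3
  rw [← Matrix.det_transpose] at e3
  simp only [Matrix.transpose_sub, Matrix.transpose_smul, Matrix.transpose_transpose, Matrix.transpose_one] at e3
  rw [show s • Y - 1 = (-s) • (s⁻¹ • (1 : Matrix ι ι L) - Y) by
    rw [smul_sub, smul_smul, neg_mul, mul_inv_cancel₀ hs0, neg_one_smul, neg_smul, sub_neg_eq_add]
    abel, Matrix.det_smul, mul_eq_zero] at e3
  exact e3.resolve_left (pow_ne_zero _ (neg_ne_zero.2 hs0))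

end general

section finite

variable {F : Type u} [Field F] {n : ℕ}

/-- A root of the characteristic polynomial over an extension is a root of an annihilating polynomial. -/
theorem aeval_root {L : Type*} [Field L] [Algebra F L] {X' : Matrix (Fin n) (Fin n) F} {g : F[X]}
    (hg : aeval X' g = 0) {t : L} (h : (Matrix.scalar (Fin n) t - X'.map (algebraMap F L)).det = 0) :
    aeval t g = 0 := by
  obtain ⟨v, hv, hv'⟩ := Matrix.exists_mulVec_eq_zero_iff.2 h
  have hev : Module.End.HasEigenvector (Matrix.toLin' (X'.map (algebraMap F L))) t v := by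
    refine ⟨Module.End.mem_eigenspace_iff.2 ?_, hv⟩
    rw [Matrix.sub_mulVec, sub_eq_zero] at hv'
    rw [Matrix.toLin'_apply, ← hv']
    funext i
    simp [Matrix.mulVec_diagonal]
  have h2 := Module.End.aeval_apply_of_hasEigenvector (p := g.map (algebraMap F L)) hev
  have h3 : aeval (Matrix.toLin' (X'.map (algebraMap F L))) (g.map (algebraMap F L)) = 0 := by
    rw [show Matrix.toLin' (X'.map (algebraMap F L)) =
      Matrix.toLinAlgEquiv' (X'.map (algebraMap F L)) from rfl, aeval_algHom_apply]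
    rw [show X'.map (algebraMap F L) = (Algebra.ofId F L).mapMatrix X' from rfl, aeval_map_algebraMap,
      aeval_algHom_apply, hg, map_zero, map_zero]
  rw [h3, LinearMap.zero_apply, Polynomial.eval_map, ← aeval_def] at h2
  exact (smul_eq_zero.1 h2.symm).resolve_right hv

/-- Conjugation in the general linear group can be replaced by conjugation in the special linear group. -/
theorem exists_sl_conj [Finite F] (hn : 0 < n) (H : Subgroup (GL (Fin n) F)) {x : GL (Fin n) F} {g : F[X]}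
    (hsq : Squarefree g) (hg : aeval x.1 g = 0) (P : GL (Fin n) F) (hP : P⁻¹ * x * P ∈ H) :
    ∃ s ∈ Cfsg.Geo.specialLinear (Fin n) F, s⁻¹ * x * s ∈ H := by
  haveI : Nonempty (Fin n) := ⟨⟨0, hn⟩⟩
  have hg' : aeval (Matrix.toLin' x.1) g = 0 := by
    rw [show Matrix.toLin' x.1 = Matrix.toLinAlgEquiv' x.1 from rfl, aeval_algHom_apply, hg, map_zero]
  obtain ⟨c, hc, hdet⟩ := exists_commute_det (Matrix.toLin' x.1) hsq hg'
    (inv_ne_zero (Matrix.GeneralLinearGroup.det P).ne_zero)
  set C := LinearMap.toMatrix' c with hC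
  have hCd : C.det = (P.1.det)⁻¹ := by rw [hC, LinearMap.det_toMatrix', hdet]; rfl
  have hP0 : P.1.det ≠ 0 := (Matrix.GeneralLinearGroup.det P).ne_zero
  let C' : GL (Fin n) F := Matrix.GeneralLinearGroup.mkOfDetNeZero C (by rw [hCd]; exact inv_ne_zero hP0)
  have hcomm : C' * x = x * C' := by
    refine Units.ext (Matrix.toLin'.injective ?_)
    show Matrix.toLin' (C * x.1) = Matrix.toLin' (x.1 * C)
    rw [Matrix.toLin'_mul, Matrix.toLin'_mul, hC, Matrix.toLin'_toMatrix']
    exact hc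
  refine ⟨C' * P, ?_, ?_⟩
  · rw [Cfsg.Geo.specialLinear, MonoidHom.mem_ker, Units.ext_iff]
    show (C * P.1).det = 1
    rw [Matrix.det_mul, hCd, inv_mul_cancel₀ hP0]
  · have : (C' * P)⁻¹ * x * (C' * P) = P⁻¹ * (C'⁻¹ * x * C') * P := by group
    rw [this, show C'⁻¹ * x * C' = x by rw [mul_assoc, ← hcomm, inv_mul_cancel_left]]
    exact hP

variable [Fintype F] {r : ℕ} [Fact r.Prime]

theorem aeval_pow_scalar {x : GL (Fin n) F} {z : F} (h : ((x ^ r : GL (Fin n) F) : Matrix (Fin n) (Fin n) F) = z • 1) :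
    aeval x.1 (X ^ r - C z : F[X]) = 0 := by
  rw [map_sub, map_pow, aeval_X, aeval_C, Algebra.algebraMap_eq_smul_one, ← Units.val_pow_eq_pow_val, h, sub_self]

theorem toLin_pow {x : GL (Fin n) F} {z : F} (h : ((x ^ r : GL (Fin n) F) : Matrix (Fin n) (Fin n) F) = z • 1) :
    Matrix.toLin' x.1 ^ r = z • (1 : Module.End F (Fin n → F)) := by
  rw [← Matrix.toLin'_pow, ← Units.val_pow_eq_pow_val, h, map_smul, Matrix.toLin'_one]
  rfl

theorem scalar_ne (hn : 0 < n) {x : GL (Fin n) F} {z : F}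
    (h : ((x ^ r : GL (Fin n) F) : Matrix (Fin n) (Fin n) F) = z • 1) : z ≠ 0 := by
  rintro rfl
  have h1 := congrArg Matrix.det h
  haveI : Nonempty (Fin n) := ⟨⟨0, hn⟩⟩
  rw [zero_smul, Matrix.det_zero] at h1
  exact (Matrix.GeneralLinearGroup.det (x ^ r)).ne_zero h1

/-- Diagonalisation of an element with split scalar `r`-th power. -/
theorem exists_diag (hr : (r : F) ≠ 0) (h1 : orderOf (Fintype.card F : ZMod r) = 1) {x : GL (Fin n) F} {d : F}
    (hd : d ≠ 0) (h : ((x ^ r : GL (Fin n) F) : Matrix (Fin n) (Fin n) F) = d ^ r • 1) :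
    ∃ (G : GL (Fin n) F) (w : Fin n → F), (∀ i, w i ^ r = d ^ r) ∧ x.1 * G.1 = G.1 * Matrix.diagonal w := by
  classical
  obtain ⟨κ, _, s, hs, hirr, hdvd, Φ, hΦ⟩ := exists_split hr (pow_ne_zero r hd) (toLin_pow h)
  have hlin : ∀ i, (s i).natDegree = 1 := fun i => by
    by_cases he : s i = X - C d
    · rw [he, natDegree_X_sub_C]
    · rw [natDegree_factor (hs i) (hirr i) hd (hdvd i) he, h1]
  have hcard : Fintype.card κ = n := by
    have := finrank_eq_sum Φ hs
    rw [finrank_fin_fun, Finset.sum_congr rfl fun i _ => hlin i, Finset.sum_const, smul_eq_mul, mul_one] at this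
    exact this.symm
  let e : Fin n ≃ κ := (Fintype.equivFinOfCardEq hcard).symm
  set c : κ → F := fun i => -(s i).coeff 0 with hc
  have hsc : ∀ i, s i = X - C (c i) := fun i => by
    rw [hc, map_neg, sub_neg_eq_add]
    exact (hs i).eq_X_add_C (hlin i)
  set b : Fin n → (Fin n → F) := fun j => Φ.symm (Pi.single (e j) 1) with hb
  have hbx : ∀ j, x.1 *ᵥ b j = c (e j) • b j := fun j => by
    refine Φ.injective ?_
    rw [← Matrix.toLin'_apply, hΦ, map_smul, hb, LinearEquiv.apply_symm_apply]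
    funext i
    rw [rootMul_apply, Pi.smul_apply]
    rcases eq_or_ne i (e j) with rfl | hne
    · rw [Pi.single_eq_same, mul_one, Algebra.smul_def, mul_one, root_eq_of_linear (hsc _)]
      rfl
    · rw [Pi.single_eq_of_ne hne, mul_zero, smul_zero]
  have hind : LinearIndependent F b := by
    refine Fintype.linearIndependent_iff.2 fun g hg j => ?_
    have h2 := congrFun (congrArg Φ hg) (e j)
    simp only [hb, map_sum, map_smul, LinearEquiv.apply_symm_apply, map_zero, Finset.sum_apply, Pi.smul_apply,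
      Pi.zero_apply] at h2
    rw [Finset.sum_eq_single j] at h2
    · rw [Pi.single_eq_same] at h2
      haveI : Nontrivial (AdjoinRoot (s (e j))) :=
        AdjoinRoot.nontrivial _ ((degree_eq_natDegree (hs _).ne_zero).trans_ne (by rw [hlin]; norm_num))
      exact (smul_eq_zero.1 h2).resolve_right one_ne_zero
    · intro i _ hij
      rw [Pi.single_eq_of_ne (fun he => hij (e.injective he).symm), smul_zero]
    · simp
  have hM : (Matrix.of fun i j => b j i).det ≠ 0 := by
    rw [← Matrix.det_transpose, ← isUnit_iff_ne_zero, ← Matrix.isUnit_iff_isUnit_det]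
    exact Matrix.linearIndependent_rows_iff_isUnit.1 hind
  refine ⟨Matrix.GeneralLinearGroup.mkOfDetNeZero _ hM, fun j => c (e j), fun j => ?_, ?_⟩
  · have h2 := hdvd (e j)
    rw [hsc, dvd_iff_isRoot, IsRoot, eval_sub, eval_pow, eval_X, eval_C, sub_eq_zero] at h2
    exact h2
  · show x.1 * Matrix.of (fun i j => b j i) = Matrix.of (fun i j => b j i) * Matrix.diagonal _
    ext i j
    rw [Matrix.mul_diagonal, Matrix.of_apply, Matrix.mul_apply]
    have h2 := congrFun (hbx j) i
    rw [Pi.smul_apply, smul_eq_mul] at h2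
    rw [mul_comm, ← h2]
    rfl

/-- Two endomorphisms with the same non-power scalar `r`-th power are conjugate. -/
theorem exists_conj_nonpower (hr : (r : F) ≠ 0) {x y : GL (Fin n) F} {z : F} (hz : z ≠ 0) (hnp : ∀ b : F, b ^ r ≠ z)
    (hx : ((x ^ r : GL (Fin n) F) : Matrix (Fin n) (Fin n) F) = z • 1)
    (hy : ((y ^ r : GL (Fin n) F) : Matrix (Fin n) (Fin n) F) = z • 1) :
    ∃ P : GL (Fin n) F, P⁻¹ * x * P = y := by
  classical
  obtain ⟨κ, _, s, hs, hirr, hdvd, Φ, hΦ⟩ := exists_split hr hz (toLin_pow hx)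
  obtain ⟨κ', _, s', hs', hirr', hdvd', Φ', hΦ'⟩ := exists_split hr hz (toLin_pow hy)
  obtain rfl : s = fun _ => X ^ r - C z := funext fun i => factor_eq hnp (hs i) (hirr i) (hdvd i)
  obtain rfl : s' = fun _ => X ^ r - C z := funext fun i => factor_eq hnp (hs' i) (hirr' i) (hdvd' i)
  have hc : ∀ {μ : Type u} [Fintype μ] (Ψ : (Fin n → F) ≃ₗ[F] (μ → AdjoinRoot (X ^ r - C z : F[X]))),
      n = Fintype.card μ * r := fun {μ} _ Ψ => by
    have := finrank_eq_sum (s := fun _ => X ^ r - C z) Ψ (fun _ => monic_X_pow_sub_C z (Fact.out : r.Prime).ne_zero)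
    rw [finrank_fin_fun, Finset.sum_const, natDegree_X_pow_sub_C, smul_eq_mul] at this
    exact this
  have e : κ' ≃ κ := Fintype.equivOfCardEq (Nat.eq_of_mul_eq_mul_right (Fact.out : r.Prime).pos
    ((hc Φ').symm.trans (hc Φ)))
  let T : (Fin n → F) ≃ₗ[F] (Fin n → F) :=
    (Φ'.trans (LinearEquiv.funCongrLeft F (AdjoinRoot (X ^ r - C z : F[X])) e.symm)).trans Φ.symm
  have hT : ∀ v, T (y.1 *ᵥ v) = x.1 *ᵥ T v := fun v => by
    refine Φ.injective ?_
    rw [← Matrix.toLin'_apply x.1, hΦ]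
    simp only [T, LinearEquiv.trans_apply, LinearEquiv.apply_symm_apply, ← Matrix.toLin'_apply y.1, hΦ']
    rfl
  have hd : (LinearMap.toMatrix' T.toLinearMap).det ≠ 0 := by
    rw [LinearMap.det_toMatrix']; exact (LinearEquiv.isUnit_det' T).ne_zero
  refine ⟨Matrix.GeneralLinearGroup.mkOfDetNeZero _ hd, ?_⟩
  rw [mul_assoc, inv_mul_eq_iff_eq_mul]
  refine Units.ext (Matrix.toLin'.injective (LinearMap.ext fun v => ?_))
  show Matrix.toLin' (x.1 * LinearMap.toMatrix' T.toLinearMap) v = Matrix.toLin' (LinearMap.toMatrix' T.toLinearMap * y.1) v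
  simp only [Matrix.toLin'_mul, LinearMap.comp_apply, Matrix.toLin'_toMatrix', Matrix.toLin'_apply]
  exact (hT v).symm

/-- An element of order `r` with one non-trivial irreducible block. -/
theorem exists_block_witness (hr : (r : F) ≠ 0) (h1 : orderOf (Fintype.card F : ZMod r) ≠ 1)
    (hle : orderOf (Fintype.card F : ZMod r) ≤ n) :
    ∃ (f : F[X]) (x : GL (Fin n) F), f.Monic ∧ Irreducible f ∧
      f.natDegree = orderOf (Fintype.card F : ZMod r) ∧ f ∣ cyclotomic r F ∧
      x ∈ Cfsg.Geo.specialLinear (Fin n) F ∧ x ^ r = 1 ∧ (∀ z : F, x.1 ≠ z • 1) ∧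
      aeval x.1 ((X - C 1) * f) = 0 ∧ f ∣ x.1.charpoly := by
  classical
  have hr1 := (Fact.out : r.Prime)
  set i := orderOf (Fintype.card F : ZMod r) with hi
  have hcyc : (cyclotomic r F).natDegree ≠ 0 := by
    rw [natDegree_cyclotomic, Nat.totient_prime hr1]
    have := hr1.two_le
    omega
  obtain ⟨f, hfm, hfirr, hfdvd⟩ := Polynomial.exists_monic_irreducible_factor (cyclotomic r F)
    (fun hu => hcyc (natDegree_eq_zero_of_isUnit hu))
  have hfne : f ≠ X - C (1 : F) := by
    rintro rfl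
    have h2 := eval_eq_zero_of_dvd_of_eval_eq_zero hfdvd (x := (1 : F)) (by simp)
    rw [eval_one_cyclotomic_prime] at h2
    exact hr h2
  have hfd : f ∣ X ^ r - C ((1 : F) ^ r) := by
    rw [one_pow, map_one, ← cyclotomic_prime_mul_X_sub_one F r]
    exact hfdvd.mul_right _
  have hfdeg : f.natDegree = i := natDegree_factor hfm hfirr one_ne_zero hfd hfne
  set s : ULift.{u} (Option (Fin (n - i))) → F[X] := fun a => a.down.elim f (fun _ => X - C 1) with hs_def
  have hsm : ∀ a, (s a).Monic := by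
    rintro ⟨_ | a⟩
    · exact hfm
    · exact monic_X_sub_C 1
  have hsum : ∑ a, (s a).natDegree = n := by
    rw [← Equiv.ulift.symm.sum_comp, Fintype.sum_option]
    simp [hs_def, hfdeg, -map_one]
    omega
  haveI : ∀ a, Module.Finite F (AdjoinRoot (s a)) := fun a => finite_adjoinRoot (s a) (hsm a)
  have hdim : finrank F (Fin n → F) = finrank F (∀ a, AdjoinRoot (s a)) := by
    rw [finrank_fin_fun, Module.finrank_pi_fintype,
      Finset.sum_congr rfl fun a _ => finrank_adjoinRoot (hsm a).ne_zero, hsum]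
  set Φ : (Fin n → F) ≃ₗ[F] ∀ a, AdjoinRoot (s a) := LinearEquiv.ofFinrankEq _ _ hdim
  set φ := Φ.symm.conj (rootMul s) with hφ
  have hΦ : ∀ v, Φ (φ v) = rootMul s (Φ v) := fun v => Φ.apply_symm_apply _
  have hsdvd : ∀ a, s a ∣ X ^ r - C (1 : F) := by
    rintro ⟨_ | a⟩
    · simpa [hs_def] using hfd
    · exact dvd_iff_isRoot.2 (by simp [IsRoot])
  have hpow : φ ^ r = 1 := by
    have := aeval_eq_zero hΦ (g := X ^ r - C (1 : F)) hsdvd
    rwa [map_sub, map_pow, aeval_X, aeval_C, map_one, sub_eq_zero] at this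
  have hdr : LinearMap.det φ ^ r = 1 := by rw [← map_pow, hpow, map_one]
  have hd0 : LinearMap.det φ ≠ 0 := fun h0 => by rw [h0, zero_pow hr1.ne_zero] at hdr; exact zero_ne_one hdr
  have hd1 : LinearMap.det φ = 1 := by
    have hco : Nat.gcd r (Fintype.card F - 1) = 1 := by
      rw [← Nat.coprime_iff_gcd_eq_one, hr1.coprime_iff_not_dvd]
      intro hd
      rw [← pow_one (Fintype.card F), LargeSylow.dvd_sub_iff Fintype.card_pos, ← hi, Nat.dvd_one] at hd
      exact h1 hd
    have := pow_gcd_eq_one.2 ⟨hdr, FiniteField.pow_card_sub_one_eq_one _ hd0⟩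
    rwa [hco, pow_one] at this
  let x : GL (Fin n) F := Matrix.GeneralLinearGroup.mkOfDetNeZero (LinearMap.toMatrix' φ)
    (by rw [LinearMap.det_toMatrix']; exact hd0)
  have hxlin : Matrix.toLin' x.1 = φ := Matrix.toLin'_toMatrix' φ
  have hchar : f ∣ x.1.charpoly := by
    rw [← Matrix.charpoly_toLin', hxlin, charpoly_eq hΦ hsm]
    exact (show f = s ⟨none⟩ from rfl) ▸ Finset.dvd_prod_of_mem s (Finset.mem_univ _)
  refine ⟨f, x, hfm, hfirr, hfdeg, hfdvd, ?_, ?_, fun z hz => ?_, ?_, hchar⟩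
  · rw [Cfsg.Geo.specialLinear, MonoidHom.mem_ker, Units.ext_iff]
    show (LinearMap.toMatrix' φ).det = 1
    rw [LinearMap.det_toMatrix', hd1]
  · refine Units.ext (Matrix.toLin'.injective ?_)
    rw [Units.val_pow_eq_pow_val, Matrix.toLin'_pow, hxlin, hpow, Units.val_one, Matrix.toLin'_one]
    rfl
  · rw [hz, ← Matrix.diagonal_one, ← Matrix.diagonal_smul, Matrix.charpoly_diagonal] at hchar
    obtain ⟨j, -, hj⟩ := hfirr.prime.exists_mem_finset_dvd hchar
    have h2 := (natDegree_le_of_dvd hj (X_sub_C_ne_zero _)).trans_eq (natDegree_X_sub_C _)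
    have h0 := hfirr.natDegree_pos
    exact h1 (by omega)
  · refine Matrix.toLinAlgEquiv'.injective ?_
    rw [← aeval_algHom_apply, show Matrix.toLinAlgEquiv' x.1 = φ from hxlin, map_zero]
    refine aeval_eq_zero hΦ ?_
    rintro ⟨_ | a⟩
    · exact dvd_mul_left _ _
    · exact dvd_mul_right _ _

/-- Roots of an irreducible polynomial over a finite field are Frobenius conjugates. -/
theorem exists_frob {f : F[X]} (hf : f.Monic) [Fact (Irreducible f)] {η : AdjoinRoot f} (h : aeval η f = 0) :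
    ∃ l, η = AdjoinRoot.root f ^ Fintype.card F ^ l := by
  classical
  haveI := finite_adjoinRoot f hf
  haveI : Finite (AdjoinRoot f) := Module.finite_of_finite F
  let ψ : AdjoinRoot f →ₐ[F] AdjoinRoot f :=
    AdjoinRoot.liftAlgHom f (Algebra.ofId F (AdjoinRoot f)) η (by simpa [aeval_def] using h)
  obtain ⟨l, hl⟩ := (FiniteField.bijective_frobeniusAlgHom_pow F (AdjoinRoot f)).2 ψ
  refine ⟨l, ?_⟩
  have h2 := congrArg (fun g : AdjoinRoot f →ₐ[F] AdjoinRoot f => g (AdjoinRoot.root f)) hl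
  simp only [AlgHom.coe_pow, FiniteField.coe_frobeniusAlgHom, pow_iterate] at h2
  rw [h2]
  exact (AdjoinRoot.liftAlgHom_root _ _ _ _).symm

theorem charpoly_conj (P x : GL (Fin n) F) : (P⁻¹ * x * P).1.charpoly = x.1.charpoly := by
  rw [Units.val_mul, Units.val_mul, Matrix.charpoly_mul_comm, ← Matrix.mul_assoc, ← Units.val_mul,
    mul_inv_cancel, Units.val_one, Matrix.one_mul]

/-- A block element that is an isometry forces `-e` to be a power of `q` modulo `r`. -/
theorem pow_eq_neg {p : ℕ} [Fact p.Prime] [CharP F p] (k : ℕ) {σ : F →+* F} (hσ : ∀ a, σ a = a ^ p ^ k)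
    (hr : (r : F) ≠ 0) {J : Matrix (Fin n) (Fin n) F} (hJ : J.det ≠ 0) {f : F[X]} (hf : f.Monic)
    (hirr : Irreducible f) (hcyc : f ∣ cyclotomic r F) {x : GL (Fin n) F}
    (hann : aeval x.1 ((X - C 1) * f) = 0) (hchar : f ∣ x.1.charpoly) (P : GL (Fin n) F)
    (hsim : IsSim σ J (P⁻¹ * x * P).1 1) :
    ∃ l, (Fintype.card F : ZMod r) ^ l = -((p : ZMod r) ^ k) := by
  classical
  haveI := Fact.mk hirr
  haveI : CharP (AdjoinRoot f) p := charP_of_injective_algebraMap (algebraMap F (AdjoinRoot f)).injective p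
  haveI : NeZero ((r : ℕ) : AdjoinRoot f) := ⟨by
    rw [← map_natCast (algebraMap F (AdjoinRoot f))]; exact (_root_.map_ne_zero _).2 hr⟩
  set ζ := AdjoinRoot.root f with hζ
  have hprim : IsPrimitiveRoot ζ r := by
    rw [← Polynomial.isRoot_cyclotomic_iff, ← map_cyclotomic r (algebraMap F (AdjoinRoot f)), IsRoot,
      eval_map, ← aeval_def]
    exact aeval_eq_zero_of_dvd_aeval_eq_zero hcyc (AdjoinRoot.aeval_eq f ▸ AdjoinRoot.mk_self)
  have hζ0 : ζ ≠ 0 := hprim.ne_zero (Fact.out : r.Prime).ne_zero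
  set a := algebraMap F (AdjoinRoot f) with ha
  set τ := iterateFrobenius (AdjoinRoot f) p k with hτ
  set Y := (P⁻¹ * x * P).1.map a with hY
  have hroot : (Matrix.scalar (Fin n) ζ - Y).det = 0 := by
    rw [← Matrix.eval_charpoly, hY, Matrix.charpoly_map, eval_map, ← aeval_def]
    refine aeval_eq_zero_of_dvd_aeval_eq_zero ?_ (AdjoinRoot.aeval_eq f ▸ AdjoinRoot.mk_self)
    rw [charpoly_conj]
    exact hchar
  have hYJ : Yᵀ * J.map a * Y.map τ = J.map a := by
    have h : (P⁻¹ * x * P).1ᵀ * J * (P⁻¹ * x * P).1.map σ = J := by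
      have := hsim
      rwa [IsSim, one_smul] at this
    have hm : Y.map τ = ((P⁻¹ * x * P).1.map σ).map a := by
      rw [hY, Matrix.map_map, Matrix.map_map]
      refine congrArg (fun g => (P⁻¹ * x * P).1.map g) (funext fun b => ?_)
      rw [Function.comp_apply, Function.comp_apply, hσ, map_pow, hτ, iterateFrobenius_def]
    rw [hm, hY, ← Matrix.transpose_map, ← Matrix.map_mul, ← Matrix.map_mul, h]
  have hJa : (J.map a).det ≠ 0 := by
    rw [show (J.map a).det = a J.det from (a.map_det J).symm]; exact (_root_.map_ne_zero a).2 hJ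
  have h1 := det_reverse τ hJa hYJ hζ0 hroot
  set η := (τ ζ)⁻¹ with hη
  have hηeq : η = (ζ ^ p ^ k)⁻¹ := by rw [hη, hτ, iterateFrobenius_def]
  have hrk : ¬ r ∣ p ^ k := fun hd => by
    have h2 := (Nat.prime_dvd_prime_iff_eq Fact.out Fact.out).1 ((Fact.out : r.Prime).dvd_of_dvd_pow hd)
    exact hr (by rw [h2]; exact CharP.cast_eq_zero F p)
  have hη1 : η ≠ 1 := by
    rw [hηeq, ne_eq, inv_eq_one]
    exact fun h2 => hrk (hprim.pow_eq_one_iff_dvd _ |>.1 h2)
  have h2 : aeval η f = 0 := by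
    rw [← Matrix.eval_charpoly, hY, Matrix.charpoly_map, charpoly_conj,
      ← Matrix.charpoly_map, Matrix.eval_charpoly] at h1
    have := aeval_root hann h1
    rw [map_mul, mul_eq_zero, map_sub, aeval_X, aeval_C, map_one, sub_eq_zero] at this
    exact this.resolve_left hη1
  obtain ⟨l, hl⟩ := exists_frob hf h2
  refine ⟨l, ?_⟩
  have h3 : ζ ^ (Fintype.card F ^ l + p ^ k) = 1 := by
    rw [pow_add, ← hl, hηeq, inv_mul_cancel₀ (pow_ne_zero _ hζ0)]
  have h4 := (ZMod.natCast_eq_zero_iff _ r).2 (hprim.pow_eq_one_iff_dvd _ |>.1 h3)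
  push_cast at h4
  exact eq_neg_of_add_eq_zero_left h4

end finite

end Cfsg.Agent.Classical.SimConj
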