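import Cfsg.Agent.Classical.Linear2
import Cfsg.Agent.MatModule.LargeSylow
import Cfsg.Prelude.Def_GeometricClasses

/-!
# Primes dividing the index of a subgroup in the special linear group
-/

set_option autoImplicit false

namespace Cfsg.Agent.Classical.SimConj

open Matrix
open scoped MatrixGroups

variable {F : Type*} [Field F] [Fintype F] {n r : ℕ}

/-- The order of the special linear group. -/
theorem card_sl (hn : 1 ≤ n) :
    (Fintype.card F - 1) * Nat.card (Cfsg.Geo.specialLinear (Fin n) F) =
      Fintype.card F ^ (n * (n - 1) / 2) * ∏ i ∈ Finset.range n, (Fintype.card F ^ (i + 1) - 1) := by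
  have hinj : Function.Injective (Matrix.SpecialLinearGroup.toGL : SpecialLinearGroup (Fin n) F →* GL (Fin n) F) :=
    fun a b h => Subtype.ext (congrArg Units.val h)
  have hr : (Matrix.SpecialLinearGroup.toGL : SpecialLinearGroup (Fin n) F →* GL (Fin n) F).range =
      Cfsg.Geo.specialLinear (Fin n) F := by
    refine Subgroup.ext fun g => ⟨?_, fun hg => ⟨⟨g.1, congrArg Units.val hg⟩, Units.ext rfl⟩⟩
    rintro ⟨a, rfl⟩
    exact Units.ext a.2
  rw [← hr, ← Nat.card_congr (MonoidHom.ofInjective hinj).toEquiv, card_sl_mul rfl n hn, prod_gl_eq]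

/-- The index of a subgroup containing `K` is divisible by `r` only if `r |K|` divides the group order. -/
theorem mul_card_dvd {G : Type*} [Group G] {H S K : Subgroup G} (hKH : K ≤ H) (hKS : K ≤ S)
    (h : r ∣ H.relIndex S) : r * Nat.card K ∣ Nat.card S := by
  let ψ : K →* H.subgroupOf S :=
    { toFun := fun k => ⟨⟨k.1, hKS k.2⟩, Subgroup.mem_subgroupOf.2 (hKH k.2)⟩
      map_one' := rfl
      map_mul' := fun _ _ => rfl }
  have hψ : Function.Injective ψ := fun a b e => Subtype.ext (congrArg (fun z : H.subgroupOf S => ((z : S) : G)) e)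
  rw [← (H.subgroupOf S).index_mul_card]
  exact mul_dvd_mul h (Subgroup.card_dvd_of_injective ψ hψ)

theorem relIndex_dvd_card {G : Type*} [Group G] {H S : Subgroup G} (h : r ∣ H.relIndex S) : r ∣ Nat.card S :=
  h.trans (H.subgroupOf S).index_dvd_card

/-- The order of `q` modulo `r` is at most `n` when `r` divides the order of the special linear group. -/
theorem order_le [Fact r.Prime] (hn : 1 ≤ n) (hrq : ¬ r ∣ Fintype.card F)
    (h : r ∣ Nat.card (Cfsg.Geo.specialLinear (Fin n) F)) : orderOf (Fintype.card F : ZMod r) ≤ n := by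
  have hr := (Fact.out : r.Prime)
  have h2 := h.mul_left (Fintype.card F - 1)
  rw [card_sl hn] at h2
  rcases hr.dvd_mul.1 h2 with h3 | h3
  · exact absurd (hr.dvd_of_dvd_pow h3) hrq
  · obtain ⟨i, hi, h4⟩ := hr.prime.exists_mem_finset_dvd h3
    rw [LargeSylow.dvd_sub_iff Fintype.card_pos] at h4
    have := Nat.le_of_dvd i.succ_pos h4
    have := Finset.mem_range.1 hi
    omega

end Cfsg.Agent.Classical.SimConj
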