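import Mathlib
import Cfsg.Agent.MatModule.UnitarySeqForm

/-!
# Eigenvalue multisets of prime order that are, or are not, symmetric
-/

set_option autoImplicit false

namespace Cfsg.Agent.Classical.SimConj

open Finset

variable {F : Type*} [Field F] {n r : ℕ} [Fact r.Prime]

/-- A pairing with constant product preserves multiplicities after reflection. -/
theorem cnt_eq [DecidableEq F] {w : Fin n → F} (hw : ∀ i, w i ≠ 0) {μ : F} {π : Equiv.Perm (Fin n)}
    (h : ∀ i, w i * w (π i) = μ) {a : F} (ha : a ≠ 0) :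
    (univ.filter fun i => w i = a).card = (univ.filter fun i => w i = μ / a).card := by
  refine Finset.card_equiv π fun i => ?_
  simp only [mem_filter, mem_univ, true_and]
  constructor
  · intro e
    rw [eq_div_iff ha, ← h i, e, mul_comm]
  · intro e
    have h2 := h i
    rw [e] at h2
    have hμ : μ ≠ 0 := fun h0 => by rw [h0] at h; exact mul_ne_zero (hw i) (hw (π i)) (h i)
    field_simp at h2
    exact h2

/-- An asymmetric multiset of `r`-th roots of unity with product one. -/
theorem exists_weights {ζ : F} (hζ : IsPrimitiveRoot ζ r) (hr3 : 3 ≤ r) (hn : 3 ≤ n) (hgap : ¬ (n = 6 ∧ r = 3))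
    (hnr : ¬ ((r = 3 ∨ r = 5) ∧ n = r)) :
    ∃ w : Fin n → F, (∀ i, ∃ e : ℕ, w i = ζ ^ e) ∧ (∏ i, w i) = 1 ∧ (∃ i j, w i ≠ w j) ∧
      ∀ (μ : F) (π : Equiv.Perm (Fin n)), ¬ ∀ i, w i * w (π i) = μ := by
  classical
  obtain ⟨m, rfl⟩ : ∃ m, n = 3 + m := ⟨n - 3, by omega⟩
  have hr1 := (Fact.out : r.Prime)
  have hζ0 : ζ ≠ 0 := hζ.ne_zero hr1.ne_zero
  have hne : ∀ a b : ℕ, a < r → b < r → a ≠ b → ζ ^ a ≠ ζ ^ b := fun a b ha hb hab h =>
    hab (hζ.pow_inj ha hb h)
  have hne1 : ∀ a : ℕ, ¬ r ∣ a → ζ ^ a ≠ 1 := fun a ha h => ha ((hζ.pow_eq_one_iff_dvd a).1 h)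
  set t := ζ ^ (r - 2) with ht
  set w : Fin (3 + m) → F := Fin.append ![ζ, ζ, t] (fun _ => 1) with hw
  have hcnt : ∀ a : F, (univ.filter fun i => w i = a).card =
      ((if ζ = a then 2 else 0) + if t = a then 1 else 0) + (if (1 : F) = a then m else 0) := by
    intro a
    rw [Finset.card_filter, Fin.sum_univ_add, Fin.sum_univ_three]
    simp only [hw, Fin.append_left, Fin.append_right]
    simp only [Matrix.cons_val_zero, Matrix.cons_val_one, Matrix.cons_val_two, Matrix.head_cons, Matrix.tail_cons,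
      sum_const, card_univ, Fintype.card_fin, smul_eq_mul]
    by_cases h1 : ζ = a <;> by_cases h2 : t = a <;> by_cases h3 : (1 : F) = a <;> simp [h1, h2, h3] <;> omega
  refine ⟨w, fun i => ?_, ?_, ?_, fun μ π h => ?_⟩
  · refine Fin.addCases (fun i => ?_) (fun i => ?_) i
    · rw [hw, Fin.append_left]
      fin_cases i
      · exact ⟨1, by simp⟩
      · exact ⟨1, by simp⟩
      · exact ⟨r - 2, by simp [ht]⟩
    · exact ⟨0, by simp [hw]⟩
  · rw [Fin.prod_univ_add, Fin.prod_univ_three]
    simp only [hw, Fin.append_left, Fin.append_right, prod_const_one, mul_one]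
    show ζ * ζ * t = 1
    rw [ht, ← pow_two, ← pow_add, show 2 + (r - 2) = r by omega, hζ.pow_eq_one]
  · rcases (show r = 3 ∨ r = 4 ∨ 5 ≤ r by omega) with rfl | rfl | hr5
    · have hm : 0 < m := Nat.pos_of_ne_zero fun h => hnr ⟨Or.inl rfl, by omega⟩
      refine ⟨Fin.castAdd m 0, Fin.natAdd 3 ⟨0, hm⟩, ?_⟩
      simp only [hw, Fin.append_left, Fin.append_right]
      exact hζ.ne_one (by norm_num)
    · exact absurd hr1 (by norm_num)
    · refine ⟨Fin.castAdd m 0, Fin.castAdd m 2, ?_⟩
      simp only [hw, Fin.append_left]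
      show ζ ≠ ζ ^ (r - 2)
      intro e
      exact hne 1 (r - 2) (by omega) (by omega) (by omega) (by rw [pow_one]; exact e)
  · have hw0 : ∀ i, w i ≠ 0 := fun i => by
      refine Fin.addCases (fun i => ?_) (fun i => ?_) i
      · rw [hw, Fin.append_left]
        fin_cases i <;> simp [ht, hζ0]
      · simp [hw]
    have key : ∀ a : F, a ≠ 0 → _ := fun a ha => cnt_eq hw0 h ha
    have k1 := key ζ hζ0
    rw [hcnt, hcnt, if_pos rfl, if_neg (Ne.symm (hζ.ne_one hr1.one_lt))] at k1
    rcases (show r = 3 ∨ r = 4 ∨ 5 ≤ r by omega) with rfl | rfl | hr5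
    · have htz : t = ζ := by rw [ht]; simp
      rw [htz] at k1 hcnt
      simp only [if_true] at k1
      have hm : 0 < m := Nat.pos_of_ne_zero fun h => hnr ⟨Or.inl rfl, by omega⟩
      have hm3 : m ≠ 3 := fun h => hgap ⟨by omega, rfl⟩
      by_cases e1 : ζ = μ / ζ
      · have k2 := key 1 one_ne_zero
        have hμ : μ = ζ ^ 2 := by rw [pow_two]; exact ((eq_div_iff hζ0).1 e1).symm
        rw [hcnt, hcnt, if_pos rfl, if_neg (hζ.ne_one (by norm_num)), div_one, hμ] at k2
        have q1 : ¬ ζ = ζ ^ 2 := fun e => hne 1 2 (by norm_num) (by norm_num) (by norm_num) (by rw [pow_one]; exact e)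
        simp only [q1, Ne.symm (hne1 2 (by norm_num)), hζ.ne_one (by norm_num), if_false] at k2
        omega
      · simp only [e1, if_false] at k1
        by_cases e2 : (1 : F) = μ / ζ
        · rw [if_pos e2] at k1; omega
        · rw [if_neg e2] at k1; omega
    · exact absurd hr1 (by norm_num)
    · have htz : t ≠ ζ := fun e => hne 1 (r - 2) (by omega) (by omega) (by omega) (by rw [pow_one]; exact e.symm)
      rw [if_neg htz] at k1
      have hm5 : ¬ (r = 5 ∧ m = 2) := fun h => hnr ⟨Or.inr h.1, by omega⟩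
      have hμt : ∀ e : ℕ, μ = ζ ^ e → μ / t = ζ ^ (e + 2) := fun e he => by
        rw [he, ht, div_eq_iff (pow_ne_zero _ hζ0), ← pow_add, show e + 2 + (r - 2) = e + r by omega, pow_add,
          hζ.pow_eq_one, mul_one]
      have htn : ∀ b : ℕ, ¬ r ∣ b + 2 → t ≠ ζ ^ b := fun b hb e => by
        refine hne1 (b + 2) hb ?_
        rw [pow_add, ← e, ht, ← pow_add, show r - 2 + 2 = r by omega, hζ.pow_eq_one]
      have hnd : ∀ b : ℕ, 0 < b → b < r → ¬ r ∣ b := fun b h0 hb hd => by
        have := Nat.le_of_dvd h0 hd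
        omega
      have ht0 : t ≠ 0 := pow_ne_zero _ hζ0
      have k2 := key t ht0
      rw [hcnt, hcnt, if_pos rfl, if_neg (Ne.symm htz),
        if_neg (Ne.symm (hne1 (r - 2) (hnd _ (by omega) (by omega))))] at k2
      by_cases e1 : ζ = μ / ζ
      · have hμ : μ = ζ ^ 2 := by rw [pow_two]; exact ((eq_div_iff hζ0).1 e1).symm
        rw [hμt 2 hμ] at k2
        rw [if_neg (fun e => hne 1 4 (by omega) (by omega) (by norm_num) (by rw [pow_one]; exact e)),
          if_neg (htn 4 (fun hd => by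
            rcases (Nat.prime_def_lt.1 hr1) with ⟨-, h2⟩
            have h6 := Nat.le_of_dvd (by norm_num) hd
            interval_cases r <;> first | omega | norm_num at hr1)),
          if_neg (Ne.symm (hne1 4 (hnd _ (by norm_num) (by omega))))] at k2
        omega
      · rw [if_neg e1] at k1
        by_cases e2 : (1 : F) = μ / ζ
        · have hμ : μ = ζ ^ 1 := by rw [pow_one]; exact ((div_eq_one_iff_eq hζ0).1 e2.symm)
          rw [if_pos e2] at k1
          rw [hμt 1 hμ] at k2
          rw [if_neg (fun e => hne 1 3 (by omega) (by omega) (by norm_num) (by rw [pow_one]; exact e)),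
            if_neg (Ne.symm (hne1 3 (hnd _ (by norm_num) (by omega))))] at k2
          by_cases e3 : t = μ / ζ
          · rw [if_pos e3] at k1
            exact hne1 (r - 2) (hnd _ (by omega) (by omega)) (e3.trans e2.symm)
          · rw [if_neg e3] at k1
            refine hm5 ⟨?_, by omega⟩
            by_contra h5
            rw [if_neg (htn 3 (fun hd => by
              have h6 := Nat.le_of_dvd (by norm_num) hd
              omega))] at k2
            omega
        · rw [if_neg e2] at k1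
          split_ifs at k1 <;> omega

/-- An asymmetric multiset containing roots of higher order. -/
theorem exists_weights_high {ζ d : F} (hζ : IsPrimitiveRoot ζ r) (hr3 : 3 ≤ r) (hd : d ^ r = ζ) :
    ∃ w : Fin r → F, (∀ i, ∃ e : ℕ, w i = d ^ e) ∧ (∀ i, w i ^ r = ζ) ∧ (∏ i, w i) = 1 ∧ (∃ i j, w i ≠ w j) ∧
      ∀ (μ : F) (π : Equiv.Perm (Fin r)), ¬ ∀ i, w i * w (π i) = μ := by
  classical
  have hr1 := (Fact.out : r.Prime)
  have hζ0 : ζ ≠ 0 := hζ.ne_zero hr1.ne_zero
  have hd0 : d ≠ 0 := fun h => hζ0 (by rw [← hd, h, zero_pow hr1.ne_zero])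
  obtain ⟨r', rfl⟩ : ∃ r', r = r' + 1 := ⟨r - 1, by omega⟩
  set e := d * ζ ^ r' with he
  have hde : e ≠ d := fun h => hζ.pow_ne_one_of_pos_of_lt (by omega) (Nat.lt_succ_self r')
    (by rwa [he, mul_right_eq_self₀, or_iff_left hd0] at h)
  set w : Fin (r' + 1) → F := Fin.snoc (fun _ => d) e with hw
  have hcnt : ∀ a : F, (univ.filter fun i => w i = a).card =
      (if d = a then r' else 0) + (if e = a then 1 else 0) := by
    intro a
    rw [Finset.card_filter, Fin.sum_univ_castSucc]
    simp only [hw, Fin.snoc_castSucc, Fin.snoc_last, sum_const, card_univ, Fintype.card_fin, smul_eq_mul]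
    split_ifs <;> omega
  refine ⟨w, fun i => ?_, fun i => ?_, ?_, ⟨Fin.last r', 0, ?_⟩, fun μ π h => ?_⟩
  · refine Fin.lastCases ?_ (fun i => ?_) i
    · refine ⟨1 + (r' + 1) * r', ?_⟩
      rw [hw, Fin.snoc_last, he, pow_add, pow_one, pow_mul, hd]
    · exact ⟨1, by simp [hw]⟩
  · refine Fin.lastCases ?_ (fun i => ?_) i
    · rw [hw, Fin.snoc_last, he, mul_pow, hd, ← pow_mul, mul_comm r', pow_mul, hζ.pow_eq_one, one_pow, mul_one]
    · simpa [hw] using hd
  · rw [Fin.prod_univ_castSucc]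
    simp only [hw, Fin.snoc_castSucc, Fin.snoc_last, prod_const, card_univ, Fintype.card_fin]
    rw [he, ← mul_assoc, ← pow_succ, hd, ← pow_succ', hζ.pow_eq_one]
  · rw [hw, Fin.snoc_last, show (0 : Fin (r' + 1)) = Fin.castSucc (⟨0, by omega⟩ : Fin r') from rfl, Fin.snoc_castSucc]
    exact hde
  · have hw0 : ∀ i, w i ≠ 0 := fun i => by
      refine Fin.lastCases ?_ (fun i => ?_) i
      · rw [hw, Fin.snoc_last, he]; exact mul_ne_zero hd0 (pow_ne_zero _ hζ0)
      · simp [hw, hd0]
    have k1 := cnt_eq hw0 h hd0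
    rw [hcnt, hcnt, if_pos rfl, if_neg hde] at k1
    have he0 : e ≠ 0 := mul_ne_zero hd0 (pow_ne_zero _ hζ0)
    have k2 := cnt_eq hw0 h he0
    rw [hcnt, hcnt, if_pos rfl, if_neg (Ne.symm hde)] at k2
    by_cases e1 : d = μ / d
    · have hμ : μ = d * d := ((eq_div_iff hd0).1 e1).symm
      have hμe : μ / e = d * ζ := by
        rw [hμ, he, div_eq_iff (mul_ne_zero hd0 (pow_ne_zero _ hζ0))]
        linear_combination -d * d * hζ.pow_eq_one
      rw [hμe] at k2
      have n1 : d ≠ d * ζ := fun h' => hζ.ne_one (by omega) ((mul_right_eq_self₀.1 h'.symm).resolve_right hd0)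
      have n2 : e ≠ d * ζ := fun h' => by
        rw [he] at h'
        have h2 : ζ ^ r' = ζ ^ 1 := by rw [pow_one]; exact mul_left_cancel₀ hd0 h'
        have := hζ.pow_inj (Nat.lt_succ_self r') (by omega) h2
        omega
      rw [if_neg n1, if_neg n2] at k2
      omega
    · rw [if_neg e1] at k1
      split_ifs at k1 <;> omega

set_option synthInstance.maxSize 4096 in
theorem five_symm : ∀ a < (6 : ℕ), ∀ b < 6 - a, ∀ c < 6 - a - b, ∀ d < 6 - a - b - c,
    (b + 2 * c + 3 * d + 4 * (5 - a - b - c - d)) % 5 = 0 →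
      (b = 5 - a - b - c - d ∧ c = d) ∨ (a = b ∧ c = 5 - a - b - c - d) ∨ (a = c ∧ d = 5 - a - b - c - d) ∨
        (a = d ∧ b = c) ∨ (a = 5 - a - b - c - d ∧ b = d) := by
  decide

theorem three_symm : ∀ a < (4 : ℕ), ∀ b < 4 - a, (b + 2 * (3 - a - b)) % 3 = 0 →
    (b = 3 - a - b) ∨ (a = b) ∨ (a = 3 - a - b) := by
  decide

theorem neg3 : (-1 : Fin 3) = 2 ∧ (-2 : Fin 3) = 1 := by decide

theorem neg5 : (-1 : Fin 5) = 4 ∧ (-2 : Fin 5) = 3 ∧ (-3 : Fin 5) = 2 ∧ (-4 : Fin 5) = 1 := by decide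

/-- For `r ∈ {3, 5}` a multiset of `r` weights with sum zero is symmetric. -/
theorem exists_symm (hr : r = 3 ∨ r = 5) (a : Fin r → Fin r) (hsum : r ∣ ∑ i, (a i : ℕ)) :
    ∃ (s : Fin r) (π : Fin r → Fin r), (∀ i, π (π i) = i) ∧ ∀ i, a (π i) = s - a i := by
  classical
  haveI : NeZero r := ⟨(Fact.out : r.Prime).ne_zero⟩
  suffices h : ∃ s : Fin r, ∀ t : Fin r, Nat.card {k // a k = s - t} = Nat.card {k // a k = t} by
    obtain ⟨s, hs⟩ := h
    obtain ⟨π, h1, h2⟩ := Cfsg.Agent.USeq.exists_pairing a (fun t => s - t) (fun i => sub_sub_cancel s (a i))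
      (fun i => hs (a i))
    exact ⟨s, π, h1, h2⟩
  set m : Fin r → ℕ := fun t => Nat.card {k // a k = t} with hm
  have hm1 : ∑ t, m t = r := by
    simp only [hm, Nat.card_eq_fintype_card, Fintype.card_subtype]
    rw [← Finset.card_eq_sum_card_fiberwise (fun i _ => Finset.mem_univ (a i)), card_univ, Fintype.card_fin]
  have hm2 : ∑ t : Fin r, (t : ℕ) * m t = ∑ i, (a i : ℕ) := by
    simp only [hm, Nat.card_eq_fintype_card, Fintype.card_subtype]
    rw [← Finset.sum_fiberwise univ a (fun i => (a i : ℕ))]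
    refine Finset.sum_congr rfl fun t _ => ?_
    rw [Finset.sum_congr rfl fun i hi => by rw [(Finset.mem_filter.1 hi).2], Finset.sum_const, smul_eq_mul, mul_comm]
  rw [← hm2] at hsum
  suffices h : ∃ s : Fin r, ∀ t : Fin r, m (s - t) = m t from h
  clear_value m
  rcases hr with rfl | rfl
  · simp only [Fin.sum_univ_three] at hm1 hsum
    norm_num at hsum
    rcases three_symm (m 0) (by omega) (m 1) (by omega) (by omega) with h | h | h
    · exact ⟨0, fun t => by fin_cases t <;> simp [neg3] <;> omega⟩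
    · exact ⟨1, fun t => by fin_cases t <;> simp [neg3] <;> omega⟩
    · exact ⟨2, fun t => by fin_cases t <;> simp [neg3] <;> omega⟩
  · simp only [Fin.sum_univ_five] at hm1 hsum
    norm_num at hsum
    rcases five_symm (m 0) (by omega) (m 1) (by omega) (m 2) (by omega) (m 3) (by omega) (by omega) with
      h | h | h | h | h
    · exact ⟨0, fun t => by fin_cases t <;> simp [neg5] <;> omega⟩
    · exact ⟨1, fun t => by fin_cases t <;> simp [neg5] <;> omega⟩
    · exact ⟨2, fun t => by fin_cases t <;> simp [neg5] <;> omega⟩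
    · exact ⟨3, fun t => by fin_cases t <;> simp [neg5] <;> omega⟩
    · exact ⟨4, fun t => by fin_cases t <;> simp [neg5] <;> omega⟩

end Cfsg.Agent.Classical.SimConj
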